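import Mathlib.Algebra.Module.FinitePresentation
import Mathlib.LinearAlgebra.Determinant
import Mathlib.LinearAlgebra.Dimension.Finrank
import Mathlib.LinearAlgebra.FiniteDimensional.Basic
import Mathlib.LinearAlgebra.Matrix.NonsingularInverse
import Mathlib.RingTheory.LocalRing.ResidueField.Ideal
import Mathlib.RingTheory.Localization.FractionRing
import Mathlib.RingTheory.Localization.Module
import Mathlib.Algebra.Module.LocalizedModule.AtPrime

/-!
Fibres of a finitely presented module at primes where it is free.
-/

set_option autoImplicit false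
universe u

namespace Groth.Agent.Basic31

variable {A : Type u} [CommRing A] {M : Type u} [AddCommGroup M] [Module A M]

/-- Some `t × t` determinant `det (φ i (x (σ j)))` is not in `p`. -/
def Rk (p : Ideal A) {s : ℕ} (x : Fin s → M) (t : ℕ) : Prop :=
  ∃ (σ : Fin t → Fin s) (φ : Fin t → Module.Dual A M), (Matrix.of fun i j => φ i (x (σ j))).det ∉ p

theorem Rk.mono {p q : Ideal A} (h : q ≤ p) {s : ℕ} {x : Fin s → M} {t : ℕ} :
    Rk p x t → Rk q x t := fun ⟨σ, φ, hd⟩ => ⟨σ, φ, fun hq => hd (h hq)⟩

/-- The ideal cutting out the locus of rank less than `t`. -/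
def detIdeal {s : ℕ} (x : Fin s → M) (t : ℕ) : Ideal A :=
  Ideal.span (Set.range fun c : (Fin t → Fin s) × (Fin t → Module.Dual A M) =>
    (Matrix.of fun i j => c.2 i (x (c.1 j))).det)

theorem detIdeal_le_iff {p : Ideal A} {s : ℕ} {x : Fin s → M} {t : ℕ} :
    detIdeal x t ≤ p ↔ ¬ Rk p x t := by
  rw [detIdeal, Ideal.span_le, Set.range_subset_iff, Rk]
  push Not
  exact ⟨fun h σ φ => h (σ, φ), fun h c => h c.1 c.2⟩

variable [Module.FinitePresentation A M] (p : PrimeSpectrum A) {r : ℕ}
  (e : LocalizedModule p.asIdeal.primeCompl M ≃ₗ[Localization.AtPrime p.asIdeal]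
    (Fin r → Localization.AtPrime p.asIdeal))

/-- Coordinates in the localization. -/
noncomputable def coord : M →ₗ[A] (Fin r → Localization.AtPrime p.asIdeal) :=
  (e.toLinearMap.restrictScalars A) ∘ₗ LocalizedModule.mkLinearMap p.asIdeal.primeCompl M

/-- The image in the fibre. -/
noncomputable def pr : M →ₗ[A] (Fin r → p.asIdeal.ResidueField) :=
  LinearMap.pi fun j =>
    (IsScalarTower.toAlgHom A (Localization.AtPrime p.asIdeal) p.asIdeal.ResidueField).toLinearMap ∘ₗ
      LinearMap.proj j ∘ₗ coord p e

omit [Module.FinitePresentation A M] in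
theorem pr_apply (x : M) (j : Fin r) :
    pr p e x j = algebraMap (Localization.AtPrime p.asIdeal) p.asIdeal.ResidueField (coord p e x j) :=
  rfl

omit [Module.FinitePresentation A M] in
theorem coord_mk (x : M) : coord p e x = e (LocalizedModule.mk x 1) := rfl

omit [Module.FinitePresentation A M] in
theorem exists_linear_comb (φ : Module.Dual A M) :
    ∃ w : Fin r → p.asIdeal.ResidueField,
      ∀ x, algebraMap A p.asIdeal.ResidueField (φ x) = ∑ j, w j * pr p e x j := by
  classical
  let ψ := IsLocalizedModule.mapExtendScalars p.asIdeal.primeCompl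
    (LocalizedModule.mkLinearMap p.asIdeal.primeCompl M)
    (Algebra.linearMap A (Localization.AtPrime p.asIdeal)) (Localization.AtPrime p.asIdeal) φ
  let χ := ψ ∘ₗ e.symm.toLinearMap
  refine ⟨fun j => algebraMap (Localization.AtPrime p.asIdeal) p.asIdeal.ResidueField
    (χ (Pi.single j 1)), fun x => ?_⟩
  have h1 : algebraMap A (Localization.AtPrime p.asIdeal) (φ x) = χ (coord p e x) := by
    change _ = ψ (e.symm (e (LocalizedModule.mkLinearMap p.asIdeal.primeCompl M x)))
    rw [e.symm_apply_apply]
    exact (IsLocalizedModule.map_apply p.asIdeal.primeCompl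
      (LocalizedModule.mkLinearMap p.asIdeal.primeCompl M)
      (Algebra.linearMap A (Localization.AtPrime p.asIdeal)) φ x).symm
  rw [IsScalarTower.algebraMap_apply A (Localization.AtPrime p.asIdeal) p.asIdeal.ResidueField, h1,
    LinearMap.pi_apply_eq_sum_univ χ (coord p e x), map_sum]
  refine Finset.sum_congr rfl fun j _ => ?_
  rw [smul_eq_mul, map_mul, pr_apply, mul_comm]
  congr 2
  refine congrArg χ ?_
  ext l
  simp [Pi.single_apply, eq_comm]

omit [Module.FinitePresentation A M] in
theorem span_pr : Submodule.span p.asIdeal.ResidueField (Set.range (pr p e)) = ⊤ := by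
  classical
  rw [eq_top_iff, ← (Pi.basisFun p.asIdeal.ResidueField (Fin r)).span_eq, Submodule.span_le]
  rintro _ ⟨j, rfl⟩
  obtain ⟨⟨x, s⟩, hx⟩ := IsLocalizedModule.mk'_surjective p.asIdeal.primeCompl
    (LocalizedModule.mkLinearMap p.asIdeal.primeCompl M) (e.symm (Pi.single j 1))
  rw [Function.uncurry_apply_pair, IsLocalizedModule.mk'_eq_iff] at hx
  have hc : coord p e x = (s : A) • (Pi.single j 1 : Fin r → Localization.AtPrime p.asIdeal) := by
    change e (LocalizedModule.mkLinearMap p.asIdeal.primeCompl M x) = _
    rw [hx, Submonoid.smul_def, ← algebraMap_smul (Localization.AtPrime p.asIdeal), map_smul,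
      e.apply_symm_apply, algebraMap_smul]
  have hs : algebraMap A p.asIdeal.ResidueField s ≠ 0 := fun h =>
    s.2 (Ideal.algebraMap_residueField_eq_zero.1 h)
  have : (Pi.basisFun p.asIdeal.ResidueField (Fin r)) j =
      (algebraMap A p.asIdeal.ResidueField s)⁻¹ • pr p e x := by
    ext l
    rw [Pi.smul_apply, smul_eq_mul, pr_apply, hc, Pi.smul_apply,
      Algebra.smul_def (s : A) ((Pi.single j 1 : Fin r → Localization.AtPrime p.asIdeal) l), map_mul,
      ← IsScalarTower.algebraMap_apply, Pi.basisFun_apply, ← mul_assoc, inv_mul_cancel₀ hs, one_mul]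
    rcases eq_or_ne l j with rfl | hlj <;> simp_all
  rw [SetLike.mem_coe, this]
  exact Submodule.smul_mem _ _ (Submodule.subset_span ⟨x, rfl⟩)

/-- Every functional on the fibre is, up to a scalar, induced by a functional on `M`. -/
theorem exists_dual (ξ : (Fin r → p.asIdeal.ResidueField) →ₗ[p.asIdeal.ResidueField] p.asIdeal.ResidueField) :
    ∃ (D : p.asIdeal.ResidueField) (φ : Module.Dual A M), D ≠ 0 ∧
      ∀ x, algebraMap A p.asIdeal.ResidueField (φ x) = D * ξ (pr p e x) := by
  classical
  have hj : ∀ j, ∃ (D : p.asIdeal.ResidueField) (φ : Module.Dual A M), D ≠ 0 ∧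
      ∀ x, algebraMap A p.asIdeal.ResidueField (φ x) = D * pr p e x j := by
    intro j
    obtain ⟨φ, s, hφ⟩ := Module.FinitePresentation.exists_lift_of_isLocalizedModule p.asIdeal.primeCompl
      (Algebra.linearMap A (Localization.AtPrime p.asIdeal)) (LinearMap.proj j ∘ₗ coord p e)
    refine ⟨algebraMap A p.asIdeal.ResidueField s, φ,
      fun h => s.2 (Ideal.algebraMap_residueField_eq_zero.1 h), fun x => ?_⟩
    have := LinearMap.congr_fun hφ x
    simp only [LinearMap.comp_apply, Algebra.linearMap_apply, LinearMap.smul_apply, LinearMap.proj_apply,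
      Submonoid.smul_def] at this
    rw [IsScalarTower.algebraMap_apply A (Localization.AtPrime p.asIdeal) p.asIdeal.ResidueField, this,
      Algebra.smul_def, map_mul, ← IsScalarTower.algebraMap_apply, pr_apply]
  choose D φ hD hφ using hj
  -- common denominators for the coefficients
  obtain ⟨b, hb⟩ := IsLocalization.exist_integer_multiples (nonZeroDivisors (A ⧸ p.asIdeal))
    Finset.univ fun j => ξ (Pi.single j 1) * (D j)⁻¹
  choose c hc using fun j => hb j (Finset.mem_univ j)
  choose c' hc' using fun j => Ideal.Quotient.mk_surjective (c j)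
  refine ⟨algebraMap (A ⧸ p.asIdeal) p.asIdeal.ResidueField b, ∑ j, c' j • φ j, ?_, fun x => ?_⟩
  · exact (IsLocalization.map_units p.asIdeal.ResidueField b).ne_zero
  rw [LinearMap.sum_apply, map_sum, LinearMap.pi_apply_eq_sum_univ ξ (pr p e x), Finset.mul_sum]
  refine Finset.sum_congr rfl fun j _ => ?_
  have h1 : (Pi.single j 1 : Fin r → p.asIdeal.ResidueField) = fun l => if j = l then 1 else 0 := by
    ext l; simp [Pi.single_apply, eq_comm]
  rw [LinearMap.smul_apply, smul_eq_mul, map_mul, hφ,
    IsScalarTower.algebraMap_apply A (A ⧸ p.asIdeal) p.asIdeal.ResidueField, Ideal.Quotient.algebraMap_eq,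
    hc', hc, Algebra.smul_def, ← h1, smul_eq_mul]
  field_simp [hD j]

theorem rk_iff {s : ℕ} (x : Fin s → M) (t : ℕ) :
    Rk p.asIdeal x t ↔
      t ≤ Module.finrank p.asIdeal.ResidueField
        (Submodule.span p.asIdeal.ResidueField (Set.range fun i => pr p e (x i))) := by
  classical
  constructor
  · rintro ⟨σ, φ, hd⟩
    choose w hw using fun i => exists_linear_comb p e (φ i)
    have hd' : ((Matrix.of fun i j => φ i (x (σ j))).map (algebraMap A p.asIdeal.ResidueField)).det ≠ 0 := by
      rw [← RingHom.mapMatrix_apply, ← RingHom.map_det]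
      exact fun h => hd (Ideal.algebraMap_residueField_eq_zero.1 h)
    let T : (Fin r → p.asIdeal.ResidueField) →ₗ[p.asIdeal.ResidueField] (Fin t → p.asIdeal.ResidueField) :=
      LinearMap.pi fun i => ∑ j, w i j • LinearMap.proj j
    have hT : ∀ j, T (pr p e (x (σ j))) =
        ((Matrix.of fun i j => φ i (x (σ j))).map (algebraMap A p.asIdeal.ResidueField)).col j := by
      intro j
      ext i
      simp [T, hw, Matrix.col]
    have hli : LinearIndependent p.asIdeal.ResidueField fun j => pr p e (x (σ j)) := by
      refine LinearIndependent.of_comp T ?_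
      have := Matrix.linearIndependent_cols_of_det_ne_zero hd'
      rw [show T ∘ (fun j => pr p e (x (σ j))) =
        ((Matrix.of fun i j => φ i (x (σ j))).map (algebraMap A p.asIdeal.ResidueField)).col from funext hT]
      exact this
    have hli' : LinearIndependent p.asIdeal.ResidueField
        (fun j => (⟨pr p e (x (σ j)), Submodule.subset_span ⟨σ j, rfl⟩⟩ :
          Submodule.span p.asIdeal.ResidueField (Set.range fun i => pr p e (x i)))) :=
      LinearIndependent.of_comp (Submodule.subtype _) hli
    simpa using hli'.fintype_card_le_finrank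
  · intro ht
    obtain ⟨κ, g, hg, hspan, hli⟩ := exists_linearIndependent' (K := p.asIdeal.ResidueField)
      fun i => pr p e (x i)
    have : Fintype κ := Fintype.ofInjective g hg
    have hcard : t ≤ Fintype.card κ := by
      rw [← hspan] at ht
      rwa [finrank_span_eq_card hli] at ht
    obtain ⟨ι⟩ : Nonempty (Fin t ↪ κ) := Function.Embedding.nonempty_of_card_le (by simpa using hcard)
    have hli2 := hli.comp ι ι.injective
    obtain ⟨L, hL⟩ := (Fintype.linearCombination p.asIdeal.ResidueField
      ((fun i => pr p e (x i)) ∘ g ∘ ι)).exists_leftInverse_of_injective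
      (LinearMap.ker_eq_bot.2 (linearIndependent_iff_injective_fintypeLinearCombination.1 hli2))
    choose D φ hD hφ using fun i : Fin t => exists_dual p e (LinearMap.proj i ∘ₗ L)
    refine ⟨g ∘ ι, φ, fun hd => ?_⟩
    have h0 := Ideal.algebraMap_residueField_eq_zero.2 hd
    rw [RingHom.map_det, RingHom.mapMatrix_apply] at h0
    have hM : (Matrix.of fun i j => φ i (x ((g ∘ ι) j))).map (algebraMap A p.asIdeal.ResidueField) =
        Matrix.diagonal D := by
      ext i j
      have hj := congrFun (LinearMap.congr_fun hL (Pi.single j 1)) i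
      simp only [LinearMap.comp_apply, Fintype.linearCombination_apply_single, one_smul,
        LinearMap.id_apply, Function.comp_apply] at hj
      simp only [Matrix.map_apply, Matrix.of_apply, Function.comp_apply, hφ, LinearMap.comp_apply,
        LinearMap.proj_apply, hj]
      rcases eq_or_ne i j with rfl | hij <;> simp_all
    rw [hM, Matrix.det_diagonal, Finset.prod_eq_zero_iff] at h0
    obtain ⟨i, _, hi⟩ := h0
    exact hD i hi

end Groth.Agent.Basic31
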