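import Groth.Agent.Basic31.Fibre
import Mathlib.RingTheory.Ideal.Height
import Mathlib.RingTheory.Ideal.KrullsHeightTheorem
import Mathlib.RingTheory.Ideal.AssociatedPrime.Basic
import Mathlib.RingTheory.Ideal.MinimalPrime.Noetherian
import Mathlib.RingTheory.LocalRing.Module
import Mathlib.Algebra.Module.LocalizedModule.Exact

/-!
Basic elements (Serre, Eisenbud–Evans) at the primes of bounded height.
-/

set_option autoImplicit false
universe u

namespace Groth.Agent.Basic31

theorem exists_adjust {K V : Type u} [Field K] [AddCommGroup V] [Module K V] {s : ℕ}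
    (v : Fin (s + 1) → V) (hd : Module.finrank K (Submodule.span K (Set.range v)) ≤ s)
    (hfin : Module.Finite K V) (a : Fin s → K) :
    Submodule.span K (Set.range fun i => v i.castSucc + a i • v (Fin.last s)) = Submodule.span K (Set.range v) ∨
      ∃ i, ∀ b : K, b ≠ 0 →
        Submodule.span K (Set.range fun l : Fin s => v l.castSucc + (a + (Pi.single i b : Fin s → K)) l • v (Fin.last s)) =
          Submodule.span K (Set.range v) := by
  classical
  have key : ∀ c : Fin s → K,
      v (Fin.last s) ∈ Submodule.span K (Set.range fun i => v i.castSucc + c i • v (Fin.last s)) →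
      Submodule.span K (Set.range fun i => v i.castSucc + c i • v (Fin.last s)) =
        Submodule.span K (Set.range v) := by
    intro c hc
    refine le_antisymm (Submodule.span_le.2 ?_) (Submodule.span_le.2 ?_)
    · rintro _ ⟨i, rfl⟩
      exact add_mem (Submodule.subset_span ⟨_, rfl⟩) (Submodule.smul_mem _ _ (Submodule.subset_span ⟨_, rfl⟩))
    · rintro _ ⟨i, rfl⟩
      cases i using Fin.lastCases with
      | last => exact hc
      | cast i =>
        have := sub_mem (Submodule.subset_span (R := K) (s := Set.range fun i => v i.castSucc + c i • v (Fin.last s))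
          ⟨i, rfl⟩) (Submodule.smul_mem _ (c i) hc)
        simpa using this
  by_cases hlast : v (Fin.last s) ∈ Submodule.span K (Set.range fun i => v i.castSucc + a i • v (Fin.last s))
  · exact Or.inl (key a hlast)
  right
  have hlt : Submodule.span K (Set.range fun i => v i.castSucc + a i • v (Fin.last s)) <
      Submodule.span K (Set.range v) := by
    refine lt_of_le_of_ne (Submodule.span_le.2 ?_) fun h => hlast (h ▸ Submodule.subset_span ⟨_, rfl⟩)
    rintro _ ⟨i, rfl⟩
    exact add_mem (Submodule.subset_span ⟨_, rfl⟩) (Submodule.smul_mem _ _ (Submodule.subset_span ⟨_, rfl⟩))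
  have hnli : ¬ LinearIndependent K (fun i => v i.castSucc + a i • v (Fin.last s)) := by
    intro h
    have h1 := Submodule.finrank_lt_finrank_of_lt hlt
    rw [finrank_span_eq_card h, Fintype.card_fin] at h1
    omega
  obtain ⟨γ, hγ, i, hi⟩ := Fintype.not_linearIndependent_iff.1 hnli
  refine ⟨i, fun b hb => key _ ?_⟩
  have hsum : ∑ l : Fin s, γ l • (v l.castSucc + (a + (Pi.single i b : Fin s → K)) l • v (Fin.last s)) =
      (γ i * b) • v (Fin.last s) := by
    have e : ∀ l, γ l • (v l.castSucc + (a + (Pi.single i b : Fin s → K)) l • v (Fin.last s)) =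
        γ l • (v l.castSucc + a l • v (Fin.last s)) + (Pi.single i (γ i * b) : Fin s → K) l • v (Fin.last s) := by
      intro l
      rcases eq_or_ne l i with rfl | hl
      · simp [smul_add, add_smul, smul_smul, add_assoc]
      · simp [hl, smul_add, smul_smul]
    rw [Finset.sum_congr rfl fun l _ => e l, Finset.sum_add_distrib, hγ, zero_add, ← Finset.sum_smul,
      Finset.sum_pi_single']
    simp
  have hmem : (γ i * b) • v (Fin.last s) ∈
      Submodule.span K (Set.range fun l : Fin s => v l.castSucc + (a + (Pi.single i b : Fin s → K)) l • v (Fin.last s)) :=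
    hsum ▸ Submodule.sum_mem _ fun l _ => Submodule.smul_mem _ _ (Submodule.subset_span ⟨l, rfl⟩)
  have := Submodule.smul_mem _ (γ i * b)⁻¹ hmem
  rwa [inv_smul_smul₀ (mul_ne_zero hi hb)] at this

variable {A : Type u} [CommRing A] {M : Type u} [AddCommGroup M] [Module A M]

/-- `M` is free of rank `r` at `p`. -/
def FreeAt (M : Type u) [AddCommGroup M] [Module A M] (p : PrimeSpectrum A) (r : ℕ) : Prop :=
  Nonempty (LocalizedModule p.asIdeal.primeCompl M ≃ₗ[Localization.AtPrime p.asIdeal]
    (Fin r → Localization.AtPrime p.asIdeal))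

/-- The adjusted family. -/
def adj {s : ℕ} (x : Fin (s + 1) → M) (a : Fin s → A) : Fin s → M :=
  fun i => x i.castSucc + a i • x (Fin.last s)

theorem Rk.congr {q : Ideal A} {s : ℕ} (x : Fin (s + 1) → M) {a a' : Fin s → A}
    (h : ∀ i, a' i - a i ∈ q) {t : ℕ} (hr : Rk q (adj x a) t) : Rk q (adj x a') t := by
  classical
  obtain ⟨σ, φ, hd⟩ := hr
  refine ⟨σ, φ, fun hd' => hd ?_⟩
  rw [← Ideal.Quotient.eq_zero_iff_mem, RingHom.map_det] at hd' ⊢
  rw [← hd']
  congr 1
  ext i j
  simp only [RingHom.mapMatrix_apply, Matrix.map_apply, Matrix.of_apply, adj, map_add, map_smul, smul_eq_mul]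
  rw [map_mul, map_mul, Ideal.Quotient.eq.2 (h (σ j))]

variable [IsNoetherianRing A] [Module.Finite A M]

theorem rk_adj {p : PrimeSpectrum A} {r : ℕ} (hp : FreeAt M p r) {s : ℕ} (x : Fin (s + 1) → M) {t : ℕ}
    (hx : Rk p.asIdeal x (t + 1)) (a : Fin s → A) : Rk p.asIdeal (adj x a) t := by
  have := Module.finitePresentation_of_finite A M
  obtain ⟨e⟩ := hp
  rw [rk_iff p e] at hx ⊢
  set W := Submodule.span p.asIdeal.ResidueField (Set.range fun i => pr p e (adj x a i))
  set v := pr p e (x (Fin.last s))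
  have hle : Submodule.span p.asIdeal.ResidueField (Set.range fun i => pr p e (x i)) ≤
      W ⊔ Submodule.span p.asIdeal.ResidueField {v} := by
    refine Submodule.span_le.2 ?_
    rintro _ ⟨i, rfl⟩
    cases i using Fin.lastCases with
    | last => exact Submodule.mem_sup_right (Submodule.mem_span_singleton_self _)
    | cast i =>
      have h : pr p e (x i.castSucc) = pr p e (adj x a i) - algebraMap A p.asIdeal.ResidueField (a i) • v := by
        simp [adj, v, map_add, map_smul, algebraMap_smul]
      simp only [SetLike.mem_coe]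
      rw [h]
      exact sub_mem (Submodule.mem_sup_left (Submodule.subset_span ⟨i, rfl⟩))
        (Submodule.mem_sup_right (Submodule.smul_mem _ _ (Submodule.mem_span_singleton_self _)))
  have h1 := Submodule.finrank_mono hle
  have h2 := Submodule.finrank_add_le_finrank_add_finrank W (Submodule.span p.asIdeal.ResidueField {v})
  have h3 : Module.finrank p.asIdeal.ResidueField (Submodule.span p.asIdeal.ResidueField {v}) ≤ 1 := by
    refine (finrank_span_le_card _).trans ?_
    simp
  omega

theorem exists_good {p : PrimeSpectrum A} {r : ℕ} (hp : FreeAt M p r) {s : ℕ} (x : Fin (s + 1) → M) {t : ℕ}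
    (hx : Rk p.asIdeal x t) (hmax : ¬ Rk p.asIdeal x (t + 1)) (ht : t ≤ s) (a : Fin s → A) :
    Rk p.asIdeal (adj x a) t ∨ ∃ i, ∀ b : A, b ∉ p.asIdeal → Rk p.asIdeal (adj x (a + Pi.single i b)) t := by
  classical
  have := Module.finitePresentation_of_finite A M
  obtain ⟨e⟩ := hp
  rw [rk_iff p e] at hx hmax
  have hrk : ∀ c : Fin s → A, Rk p.asIdeal (adj x c) t ↔
      t ≤ Module.finrank p.asIdeal.ResidueField (Submodule.span p.asIdeal.ResidueField
        (Set.range fun i => pr p e (x i.castSucc) +
          algebraMap A p.asIdeal.ResidueField (c i) • pr p e (x (Fin.last s)))) := by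
    intro c
    rw [rk_iff p e]
    have h1 : (fun i => pr p e (adj x c i)) = fun i => pr p e (x i.castSucc) +
        algebraMap A p.asIdeal.ResidueField (c i) • pr p e (x (Fin.last s)) := funext fun i => by
      rw [adj, map_add, map_smul, algebraMap_smul]
    rw [h1]
  rcases exists_adjust (fun i => pr p e (x i)) (by omega) inferInstance
    (fun i => algebraMap A p.asIdeal.ResidueField (a i)) with h | ⟨i, hi⟩
  · exact Or.inl ((hrk a).2 (by rw [h]; exact hx))
  · refine Or.inr ⟨i, fun b hb => (hrk _).2 ?_⟩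
    have h := hi (algebraMap A p.asIdeal.ResidueField b) fun h0 =>
      hb (Ideal.algebraMap_residueField_eq_zero.1 h0)
    rw [← h] at hx
    have h1 : ∀ l, algebraMap A p.asIdeal.ResidueField ((a + (Pi.single i b : Fin s → A)) l) =
        ((fun l => algebraMap A p.asIdeal.ResidueField (a l)) +
          (Pi.single i (algebraMap A p.asIdeal.ResidueField b) : Fin s → p.asIdeal.ResidueField)) l := fun l => by
      rcases eq_or_ne l i with rfl | hl <;> simp [*]
    refine hx.trans_eq (congrArg (fun f : Fin s → (Fin r → p.asIdeal.ResidueField) =>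
      Module.finrank p.asIdeal.ResidueField (Submodule.span p.asIdeal.ResidueField (Set.range f))) (funext fun l => ?_))
    rw [h1 l]

theorem exists_simultaneous {s : ℕ} (x : Fin (s + 1) → M) (T : PrimeSpectrum A → ℕ) {r : ℕ}
    (B : Finset (PrimeSpectrum A)) (hB : ∀ p ∈ B, FreeAt M p r ∧ Rk p.asIdeal x (T p) ∧
      ¬ Rk p.asIdeal x (T p + 1) ∧ T p ≤ s) :
    ∃ a : Fin s → A, ∀ p ∈ B, Rk p.asIdeal (adj x a) (T p) := by
  classical
  induction B using Finset.strongInduction with
  | H B ih =>
    rcases B.eq_empty_or_nonempty with rfl | hne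
    · exact ⟨0, by simp⟩
    obtain ⟨p, hp, hmin⟩ := B.exists_minimal hne
    obtain ⟨a, ha⟩ := ih _ (Finset.erase_ssubset hp) fun q hq => hB q (Finset.mem_of_mem_erase hq)
    obtain ⟨h1, h2, h3, h4⟩ := hB p hp
    rcases exists_good h1 x h2 h3 h4 a with h | ⟨i, hi⟩
    · refine ⟨a, fun q hq => ?_⟩
      by_cases hqp : q = p
      · exact hqp ▸ h
      · exact ha q (Finset.mem_erase.2 ⟨hqp, hq⟩)
    have hnle : ∀ q ∈ B.erase p, ¬ q.asIdeal ≤ p.asIdeal := fun q hq hle =>
      (Finset.mem_erase.1 hq).1 (le_antisymm hle (hmin (Finset.mem_of_mem_erase hq) hle))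
    choose g hg hg' using fun q : B.erase p => Set.not_subset.1 (hnle q.1 q.2)
    set b := ∏ q, g q
    have hb : b ∉ p.asIdeal := fun h => by
      obtain ⟨q, -, hq⟩ := p.isPrime.prod_mem_iff.1 h
      exact hg' q hq
    refine ⟨a + Pi.single i b, fun q hq => ?_⟩
    by_cases hqp : q = p
    · exact hqp ▸ hi b hb
    refine Rk.congr x (fun l => ?_) (ha q (Finset.mem_erase.2 ⟨hqp, hq⟩))
    rcases eq_or_ne l i with rfl | hl
    · have : b ∈ q.asIdeal := Ideal.mem_of_dvd _
        (Finset.dvd_prod_of_mem g (Finset.mem_univ ⟨q, Finset.mem_erase.2 ⟨hqp, hq⟩⟩))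
        (hg ⟨q, Finset.mem_erase.2 ⟨hqp, hq⟩⟩)
      simpa using this
    · simp [hl]

theorem step {k r : ℕ} (hM : ∀ p : PrimeSpectrum A, p.asIdeal.height ≤ k → FreeAt M p r) {s : ℕ}
    (x : Fin (s + 1) → M)
    (hx : ∀ (p : PrimeSpectrum A) (h : ℕ), p.asIdeal.height = h → h ≤ k →
      Rk p.asIdeal x (min (s + 1) (k + 1 - h))) :
    ∃ y : Fin s → M, ∀ (p : PrimeSpectrum A) (h : ℕ), p.asIdeal.height = h → h ≤ k →
      Rk p.asIdeal y (min s (k + 1 - h)) := by
  classical
  have := Module.finitePresentation_of_finite A M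
  let bad : Set (PrimeSpectrum A) := {p | ∃ h : ℕ, p.asIdeal.height = h ∧ h ≤ k ∧ k + 1 - h ≤ s ∧
    ¬ Rk p.asIdeal x (k + 1 - h + 1)}
  have hfin : bad.Finite := by
    refine Set.Finite.subset (Set.Finite.preimage (f := PrimeSpectrum.asIdeal)
      (fun a _ b _ hab => PrimeSpectrum.ext hab)
      ((Finset.range (s + 2)).finite_toSet.biUnion fun t _ =>
        (detIdeal x t).finite_minimalPrimes_of_isNoetherianRing A)) ?_
    rintro p ⟨h, hh, hk, hs, hr⟩
    rw [Set.mem_preimage, Set.mem_iUnion₂]
    refine ⟨k + 1 - h + 1, by simp; omega, ⟨p.isPrime, detIdeal_le_iff.2 hr⟩, fun q hq hqp => ?_⟩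
    by_contra hne
    have := hq.1
    have hlt : q.height < p.asIdeal.height :=
      Ideal.height_strict_mono_of_isPrime (lt_of_le_not_ge hqp hne)
    rw [hh] at hlt
    obtain ⟨h', hh'⟩ := ENat.ne_top_iff_exists.1 hlt.ne_top
    rw [← hh', Nat.cast_lt] at hlt
    have hq' := hx ⟨q, hq.1⟩ h' hh'.symm (by omega)
    -- rank at least `t`, so some determinant of size `t` survives
    have hle : k + 1 - h + 1 ≤ min (s + 1) (k + 1 - h') := by omega
    obtain ⟨e⟩ := hM ⟨q, hq.1⟩ (by rw [← hh', Nat.cast_le]; omega)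
    rw [rk_iff ⟨q, hq.1⟩ e] at hq'
    exact detIdeal_le_iff.1 hq.2 ((rk_iff ⟨q, hq.1⟩ e x _).2 (hle.trans hq'))
  let T : PrimeSpectrum A → ℕ := fun p => k + 1 - p.asIdeal.height.toNat
  obtain ⟨a, ha⟩ := exists_simultaneous x T (r := r) hfin.toFinset (fun p hp => by
    obtain ⟨h, hh, hk, hs, hr⟩ := hfin.mem_toFinset.1 hp
    have := hx p h hh hk
    rw [min_eq_right (by omega)] at this
    simp only [T, hh, ENat.toNat_natCast]
    exact ⟨hM p (by rw [hh, Nat.cast_le]; exact hk), this, hr, hs⟩)
  refine ⟨adj x a, fun p h hh hk => ?_⟩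
  have hfree := hM p (by rw [hh, Nat.cast_le]; exact hk)
  have hp := hx p h hh hk
  rcases Nat.lt_or_ge s (k + 1 - h) with hs | hs
  · rw [min_eq_left (by omega)] at hp ⊢
    exact rk_adj hfree x hp a
  rw [min_eq_right hs]
  by_cases hr : Rk p.asIdeal x (k + 1 - h + 1)
  · exact rk_adj hfree x hr a
  · have := ha p (hfin.mem_toFinset.2 ⟨h, hh, hk, hs, hr⟩)
    simpa [T, hh] using this

theorem exists_basic {k r : ℕ} (hkr : k < r)
    (hM : ∀ p : PrimeSpectrum A, p.asIdeal.height ≤ k → FreeAt M p r) :
    ∃ m : M, ∀ p : PrimeSpectrum A, p.asIdeal.height ≤ k → ∃ φ : Module.Dual A M, φ m ∉ p.asIdeal := by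
  classical
  have := Module.finitePresentation_of_finite A M
  obtain ⟨s₀, g, hg⟩ := Module.Finite.exists_fin (R := A) (M := M)
  have down : ∀ s : ℕ, (∃ x : Fin (s + 1) → M, ∀ (p : PrimeSpectrum A) (h : ℕ), p.asIdeal.height = h → h ≤ k →
      Rk p.asIdeal x (min (s + 1) (k + 1 - h))) →
      ∃ x : Fin 1 → M, ∀ (p : PrimeSpectrum A) (h : ℕ), p.asIdeal.height = h → h ≤ k → Rk p.asIdeal x 1 := by
    intro s
    induction s with
    | zero =>
      rintro ⟨x, hx⟩
      exact ⟨x, fun p h hh hk => by simpa [min_eq_left (show 0 + 1 ≤ k + 1 - h by omega)] using hx p h hh hk⟩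
    | succ s ih =>
      rintro ⟨x, hx⟩
      exact ih (step hM x hx)
  have init : ∀ (p : PrimeSpectrum A) (h : ℕ), p.asIdeal.height = h → h ≤ k →
      Rk p.asIdeal (Fin.snoc g 0 : Fin (s₀ + 1) → M) (min (s₀ + 1) (k + 1 - h)) := by
    intro p h hh hk
    obtain ⟨e⟩ := hM p (by rw [hh, Nat.cast_le]; exact hk)
    rw [rk_iff p e]
    have : Submodule.span p.asIdeal.ResidueField
        (Set.range fun i => pr p e ((Fin.snoc g 0 : Fin (s₀ + 1) → M) i)) = ⊤ := by
      rw [eq_top_iff, ← span_pr p e, Submodule.span_le]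
      rintro _ ⟨m, rfl⟩
      have hm : m ∈ Submodule.span A (Set.range g) := hg ▸ Submodule.mem_top
      refine Submodule.span_le_restrictScalars A p.asIdeal.ResidueField _ ?_
      have := Submodule.mem_map_of_mem (f := pr p e) hm
      rw [Submodule.map_span, ← Set.range_comp] at this
      refine Submodule.span_mono ?_ this
      rintro _ ⟨i, rfl⟩
      exact ⟨i.castSucc, by simp⟩
    rw [this, finrank_top, Module.finrank_fin_fun]
    omega
  obtain ⟨x, hx⟩ := down s₀ ⟨_, init⟩
  refine ⟨x 0, fun p hp => ?_⟩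
  obtain ⟨h, hh⟩ := ENat.ne_top_iff_exists.1 (ne_top_of_le_ne_top (ENat.natCast_ne_top k) hp)
  obtain ⟨σ, φ, hd⟩ := hx p h hh.symm (by rwa [← hh, Nat.cast_le] at hp)
  refine ⟨φ 0, ?_⟩
  rwa [Matrix.det_fin_one, Matrix.of_apply, Fin.eq_zero (σ 0)] at hd

omit [IsNoetherianRing A] [Module.Finite A M] in
theorem freeAt_quotient {p : PrimeSpectrum A} {r : ℕ} (hp : FreeAt M p (r + 1)) (m : M)
    (φ : Module.Dual A M) (hφ : φ m ∉ p.asIdeal) :
    FreeAt (M ⧸ Submodule.span A {m}) p r := by
  classical
  obtain ⟨e⟩ := hp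
  set S := p.asIdeal.primeCompl
  set R' := Localization.AtPrime p.asIdeal
  set N := Submodule.span A {m}
  let q := LocalizedModule.map S N.mkQ
  have hqs : Function.Surjective q := LocalizedModule.map_surjective S _ (Submodule.mkQ_surjective N)
  let v : LocalizedModule S M := LocalizedModule.mk m 1
  let ψ := IsLocalizedModule.mapExtendScalars S (LocalizedModule.mkLinearMap S M)
    (Algebra.linearMap A R') R' φ
  have hψ : IsUnit (ψ v) := by
    have : ψ v = algebraMap A R' (φ m) :=
      IsLocalizedModule.map_apply S (LocalizedModule.mkLinearMap S M) (Algebra.linearMap A R') φ m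
    rw [this]
    exact IsLocalization.map_units R' (⟨φ m, hφ⟩ : S)
  obtain ⟨u, hu⟩ := hψ
  have hker : LinearMap.ker q = Submodule.span R' {v} := by
    refine le_antisymm (fun y hy => ?_) ?_
    · induction y using LocalizedModule.induction_on with
      | _ y s =>
        rw [LinearMap.mem_ker, LocalizedModule.map_mk, ← LocalizedModule.zero_mk s, LocalizedModule.mk_eq] at hy
        obtain ⟨c, hc⟩ := hy
        simp only [smul_zero, Submonoid.smul_def] at hc
        rw [← map_smul, ← map_smul, Submodule.mkQ_apply, Submodule.Quotient.mk_eq_zero,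
          Submodule.mem_span_singleton] at hc
        obtain ⟨z, hz⟩ := hc
        refine Submodule.mem_span_singleton.2 ⟨Localization.mk z (c * s * s), ?_⟩
        rw [LocalizedModule.mk_smul_mk, mul_one, hz, LocalizedModule.mk_eq]
        exact ⟨1, by simp only [Submonoid.smul_def, Submonoid.coe_mul, one_smul, smul_smul]; congr 1; ring⟩
    · rw [Submodule.span_singleton_le_iff_mem, LinearMap.mem_ker, LocalizedModule.map_mk,
        Submodule.mkQ_apply, (Submodule.Quotient.mk_eq_zero N).2 (Submodule.mem_span_singleton_self m),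
        LocalizedModule.zero_mk]
  -- the quotient is isomorphic to the kernel of `ψ`
  let g : LinearMap.ker ψ →ₗ[R'] LocalizedModule S (M ⧸ N) := q ∘ₗ (LinearMap.ker ψ).subtype
  have hg : Function.Bijective g := by
    refine ⟨(injective_iff_map_eq_zero g).2 fun y hy => ?_, fun z => ?_⟩
    · have : (y : LocalizedModule S M) ∈ Submodule.span R' {v} := hker ▸ LinearMap.mem_ker.2 hy
      obtain ⟨c, hc⟩ := Submodule.mem_span_singleton.1 this
      have h0 := y.2
      rw [LinearMap.mem_ker, ← hc, map_smul, ← hu, smul_eq_mul] at h0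
      refine Subtype.ext ?_
      rw [← hc, (Units.mul_left_eq_zero u).1 h0, zero_smul, Submodule.coe_zero]
    · obtain ⟨y, rfl⟩ := hqs z
      refine ⟨⟨y - (ψ y * (↑u⁻¹ : R')) • v, ?_⟩, ?_⟩
      · rw [LinearMap.mem_ker, map_sub, map_smul, ← hu, smul_eq_mul, mul_assoc, Units.inv_mul, mul_one, sub_self]
      · have hv : q v = 0 := LinearMap.mem_ker.1 (hker ▸ Submodule.mem_span_singleton_self v)
        simp [g, hv]
  -- so the quotient is finite projective over a local ring, of rank `r`
  have hfree : Module.Free R' (LocalizedModule S M) := Module.Free.of_equiv e.symm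
  have : Module.Finite R' (LocalizedModule S M) := Module.Finite.equiv e.symm
  let π : LocalizedModule S M →ₗ[R'] LinearMap.ker ψ :=
    LinearMap.codRestrict _ (LinearMap.id - (↑u⁻¹ : R') • ψ.smulRight v) fun y => by
      simp only [LinearMap.mem_ker, LinearMap.sub_apply, LinearMap.id_apply, LinearMap.smul_apply,
        LinearMap.smulRight_apply, map_sub, map_smul, smul_eq_mul, ← hu]
      rw [← mul_assoc, mul_comm (↑u⁻¹ : R'), mul_assoc, Units.inv_mul, mul_one, sub_self]
  have hπ : π ∘ₗ (LinearMap.ker ψ).subtype = LinearMap.id := by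
    ext y
    simp [π, LinearMap.mem_ker.1 y.2]
  have : Module.Projective R' (LinearMap.ker ψ) := Module.Projective.of_split _ π hπ
  have : Module.Finite R' (LinearMap.ker ψ) :=
    Module.Finite.of_surjective π fun y => ⟨y, LinearMap.congr_fun hπ y⟩
  have : Module.FinitePresentation R' (LinearMap.ker ψ) := Module.finitePresentation_of_projective R' _
  have : Module.Free R' (LinearMap.ker ψ) := Module.free_of_flat_of_isLocalRing
  have hsurj : Function.Surjective ψ := fun c => ⟨(c * (↑u⁻¹ : R')) • v, by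
    rw [map_smul, ← hu, smul_eq_mul, mul_assoc, Units.inv_mul, mul_one]⟩
  let i : R' →ₗ[R'] LocalizedModule S M := (↑u⁻¹ : R') • LinearMap.toSpanSingleton R' _ v
  have hi : ψ ∘ₗ i = LinearMap.id := by
    ext
    simp [i, ← hu]
  let E : (LinearMap.ker ψ × R') ≃ₗ[R'] LocalizedModule S M :=
    LinearEquiv.ofBijective ((LinearMap.ker ψ).subtype.coprod i) ⟨(injective_iff_map_eq_zero _).2 (by
      rintro ⟨y, c⟩ h
      have hc := congrArg ψ h
      have hy : ψ (y : LocalizedModule S M) = 0 := y.2
      have hi' : ψ (i c) = c := LinearMap.congr_fun hi c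
      simp [hy, hi'] at hc
      subst hc
      simpa using h), fun y => ⟨(⟨y - i (ψ y), by
        simp [LinearMap.mem_ker, show ψ (i (ψ y)) = ψ y from LinearMap.congr_fun hi (ψ y)]⟩, ψ y), by simp⟩⟩
  have hrank : Module.finrank R' (LinearMap.ker ψ) = r := by
    have h1 := E.finrank_eq
    rw [Module.finrank_prod, Module.finrank_self, e.finrank_eq, Module.finrank_fin_fun] at h1
    omega
  exact ⟨((LinearEquiv.ofBijective g hg).symm).trans (LinearEquiv.ofFinrankEq _ _ (by rw [hrank, Module.finrank_fin_fun]))⟩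

theorem exists_free_submodule {k : ℕ} (hAss : ∀ p ∈ associatedPrimes A A, p.height ≤ k) :
    ∀ (j : ℕ) {M : Type u} [AddCommGroup M] [Module A M] [Module.Finite A M],
      (∀ p : PrimeSpectrum A, p.asIdeal.height ≤ k → FreeAt M p (k + j)) →
      ∃ g : (Fin j → A) →ₗ[A] M, Function.Injective g ∧
        ∀ p : PrimeSpectrum A, p.asIdeal.height ≤ k → FreeAt (M ⧸ LinearMap.range g) p k := by
  intro j
  induction j with
  | zero =>
    intro M _ _ _ hM
    refine ⟨0, fun a b _ => Subsingleton.elim a b, fun p hp => ?_⟩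
    obtain ⟨e⟩ := hM p hp
    have e0 : (M ⧸ LinearMap.range (0 : (Fin 0 → A) →ₗ[A] M)) ≃ₗ[A] M :=
      (Submodule.quotEquivOfEq _ ⊥ LinearMap.range_zero).trans (Submodule.quotEquivOfEqBot ⊥ rfl)
    exact ⟨(IsLocalizedModule.mapEquiv p.asIdeal.primeCompl (LocalizedModule.mkLinearMap _ _)
      (LocalizedModule.mkLinearMap _ _) (Localization.AtPrime p.asIdeal) e0).trans e⟩
  | succ j ih =>
    intro M _ _ _ hM
    obtain ⟨m, hm⟩ := exists_basic (k := k) (r := k + j + 1) (by omega) hM
    obtain ⟨g', hg', hgq⟩ := ih (M := M ⧸ Submodule.span A {m}) fun p hp => by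
      obtain ⟨φ, hφ⟩ := hm p hp
      exact freeAt_quotient (hM p hp) m φ hφ
    obtain ⟨g₁, hg₁⟩ := Module.projective_lifting_property (Submodule.span A {m}).mkQ g'
      (Submodule.mkQ_surjective _)
    let g : (Fin (j + 1) → A) →ₗ[A] M :=
      (LinearMap.toSpanSingleton A M m).comp (LinearMap.proj 0) + g₁.comp (LinearMap.funLeft A A Fin.succ)
    have hgapp : ∀ x : Fin (j + 1) → A, g x = x 0 • m + g₁ (fun i : Fin j => x i.succ) := fun x => rfl
    refine ⟨g, (injective_iff_map_eq_zero g).2 fun x hx => ?_, fun p hp => ?_⟩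
    · rw [hgapp] at hx
      have ht : (fun i : Fin j => x i.succ) = 0 := by
        refine hg' ?_
        rw [map_zero, ← hg₁, LinearMap.comp_apply, eq_neg_of_add_eq_zero_right hx, map_neg,
          Submodule.mkQ_apply,
          (Submodule.Quotient.mk_eq_zero _).2 (Submodule.smul_mem _ _ (Submodule.mem_span_singleton_self m)),
          neg_zero]
      rw [ht, map_zero, add_zero] at hx
      have h0 : x 0 = 0 := by
        by_contra h0
        obtain ⟨P, hP, hle⟩ := exists_le_isAssociatedPrime_of_isNoetherianRing A (x 0) h0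
        obtain ⟨φ, hφ⟩ := hm ⟨P, hP.isPrime⟩ (hAss P hP)
        refine hφ (hle ?_)
        have h' := congrArg φ hx
        rw [map_smul, map_zero, smul_eq_mul, mul_comm] at h'
        simpa [Submodule.mem_colon_singleton, smul_eq_mul] using h'
      ext i
      cases i using Fin.cases with
      | zero => exact h0
      | succ i => exact congrFun ht i
    · obtain ⟨e⟩ := hgq p hp
      let N := Submodule.span A {m}
      have hle : N ≤ LinearMap.range g := by
        rw [Submodule.span_singleton_le_iff_mem]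
        refine ⟨Pi.single 0 1, ?_⟩
        have : (fun i : Fin j => (Pi.single 0 1 : Fin (j + 1) → A) i.succ) = 0 := by ext i; simp
        rw [hgapp, this, map_zero, add_zero, Pi.single_eq_same, one_smul]
      have hmap : (LinearMap.range g).map N.mkQ = LinearMap.range g' := by
        refine le_antisymm ?_ ?_
        · rintro _ ⟨_, ⟨x, rfl⟩, rfl⟩
          refine ⟨fun i : Fin j => x i.succ, ?_⟩
          rw [hgapp, map_add, Submodule.mkQ_apply,
            (Submodule.Quotient.mk_eq_zero N).2 (Submodule.smul_mem _ _ (Submodule.mem_span_singleton_self m)),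
            zero_add, ← hg₁]
          rfl
        · rintro _ ⟨y, rfl⟩
          refine ⟨g (Fin.cons 0 y), ⟨_, rfl⟩, ?_⟩
          rw [hgapp, ← hg₁]
          simp
      have e0 : (M ⧸ LinearMap.range g) ≃ₗ[A] ((M ⧸ N) ⧸ LinearMap.range g') :=
        (Submodule.quotientQuotientEquivQuotient N _ hle).symm.trans (Submodule.quotEquivOfEq _ _ hmap)
      exact ⟨(IsLocalizedModule.mapEquiv p.asIdeal.primeCompl (LocalizedModule.mkLinearMap _ _)
        (LocalizedModule.mkLinearMap _ _) (Localization.AtPrime p.asIdeal) e0).trans e⟩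

end Groth.Agent.Basic31
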